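import Cfsg.Agent.H592.Rl.Classes9
import Cfsg.Agent.H788.Rl.Core
import Cfsg.Agent.H900.SU4.Base
import Cfsg.Agent.S5782

/-!
# S3691, row `PΩ⁺₈(q)`, F34-C: subgroups of `GL₄(q)` of order divisible by `r₄` and `r₃` (helper592)
-/

set_option autoImplicit false
set_option linter.style.haveILetI false

namespace Cfsg.Agent.H592.F34

open Cfsg Cfsg.Geo Matrix Module Cfsg.Agent.H454.Reg Cfsg.Agent.H728.DghpNum Cfsg.Agent.H304.Ppd
  Cfsg.Agent.H251.GeoCard Cfsg.Agent.H592.Rl
open scoped MatrixGroups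

/-! ### numbers -/

section num

variable {p f k u : ℕ}

theorem ppd_of (hf : 1 ≤ f) (hk : 1 ≤ k) (hu : u.Prime) (hord : orderOf ((p : ℕ) : ZMod u) = f * k) :
    Ppd p (f * k) u ∧ Ppd (p ^ f) k u := by
  haveI : Fact u.Prime := ⟨hu⟩
  have hfk : 0 < f * k := Nat.mul_pos hf hk
  have hup : ¬ u ∣ p := by
    intro h
    have h1 : ((p : ℕ) : ZMod u) = 0 := (ZMod.natCast_eq_zero_iff p u).2 h
    rw [h1, orderOf_zero] at hord
    omega
  have hP0 : Ppd p (f * k) u := ⟨hu, hord, hup⟩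
  refine ⟨hP0, ?_⟩
  have h1 := hP0.pow f (by omega)
  rw [Nat.gcd_comm, Nat.gcd_mul_right_right, Nat.mul_div_cancel_left _ hf] at h1
  exact h1

theorem seven_le (hu : u.Prime) (hP : Ppd p 3 u) : 7 ≤ u := by
  haveI : Fact u.Prime := ⟨hu⟩
  have h1 : 3 ∣ u - 1 := by
    rw [← hP.ord]
    refine ZMod.orderOf_dvd_card_sub_one ?_
    intro h
    exact hP.ndvd ((ZMod.natCast_eq_zero_iff p u).1 h)
  have h2 := hP.lt
  have h3 : u ≠ 4 := by
    rintro rfl
    exact absurd hu (by norm_num)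
  obtain ⟨c, hc⟩ := h1
  omega

end num

/-! ### the residual class -/

section res

variable {ι : Type} [Fintype ι] [DecidableEq ι] {F : Type*} [Field F] {H P : Subgroup (GL ι F)}

/-- the prime powers dividing the order of a residual subgroup -/
theorem pow_dvd_of_equiv [Nonempty ι] [Fintype F] (hP : IsResidualCore H P) (hHS : H ≤ specialLinear ι F) {u a : ℕ}
    (hu : u.Prime) (hu1 : ¬ u ∣ Fintype.card F - 1) (h : u ^ a ∣ Nat.card H) {S : Type*} [Group S]
    (e : (P ⧸ (scalars ι F).subgroupOf P) ≃* S) : u ^ a ∣ Nat.card (MulAut S) := by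
  classical
  obtain ⟨φ, hφ⟩ := Cfsg.Agent.H269.U5.exists_act hP
  rw [H788.Rl.card_eq φ] at h
  have h1 : Nat.Coprime (u ^ a) (Nat.card φ.ker) := by
    apply Nat.Coprime.pow_left
    rw [hu.coprime_iff_not_dvd]
    intro h2
    exact hu1 (h2.trans (H788.Rl.card_ker_dvd hHS φ hφ))
  rw [← Nat.card_congr (MulAut.congr e).toEquiv]
  exact (h1.dvd_of_dvd_mul_left h).trans (Subgroup.card_subgroup_dvd_card _)

end res

theorem no_pow {r b m : ℕ} (hr : r.Prime) (hrb : (13 ≤ r ∧ 1 ≤ b) ∨ (r = 5 ∧ 2 ≤ b)) (h : r ^ b ∣ m)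
    (hm : m ∣ 5040 ∨ m ∣ 51840) : False := by
  rcases hrb with ⟨h1, h2⟩ | ⟨rfl, h2⟩
  · have h3 : r ∣ 2 ^ 7 * 3 ^ 4 * 5 * 7 := by
      have h4 : r ∣ m := (dvd_pow_self r (by omega)).trans h
      rcases hm with h5 | h5
      · exact (h4.trans h5).trans (by norm_num)
      · exact (h4.trans h5).trans (by norm_num)
    rcases (hr.dvd_mul).1 h3 with h3 | h3
    · rcases (hr.dvd_mul).1 h3 with h3 | h3
      · rcases (hr.dvd_mul).1 h3 with h3 | h3
        · have := Nat.le_of_dvd (by norm_num) (hr.dvd_of_dvd_pow h3)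
          omega
        · have := Nat.le_of_dvd (by norm_num) (hr.dvd_of_dvd_pow h3)
          omega
      · have := Nat.le_of_dvd (by norm_num) h3
        omega
    · have := Nat.le_of_dvd (by norm_num) h3
      omega
  · have h3 : 5 ^ 2 ∣ m := (pow_dvd_pow 5 h2).trans h
    rcases hm with h5 | h5
    · exact absurd (h3.trans h5) (by norm_num)
    · exact absurd (h3.trans h5) (by norm_num)

variable {F : Type} [Field F] [Fintype F] {p f : ℕ}

/-- the intersection with `SL` -/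
theorem dvd_inf {A : Subgroup (GL (Fin 4) F)} {u b : ℕ} (hu : u.Prime) (hu1 : ¬ u ∣ Fintype.card F - 1)
    (h : u ^ b ∣ Nat.card A) : u ^ b ∣ Nat.card (A ⊓ specialLinear (Fin 4) F : Subgroup (GL (Fin 4) F)) := by
  classical
  let φ : A →* Fˣ := (Matrix.GeneralLinearGroup.det).comp A.subtype
  have h1 : Nat.card φ.ker = Nat.card (A ⊓ specialLinear (Fin 4) F : Subgroup (GL (Fin 4) F)) := by
    refine Nat.card_congr ⟨fun x => ⟨x.1.1, x.1.2, x.2⟩, fun x => ⟨⟨x.1, x.2.1⟩, x.2.2⟩, fun _ => rfl, fun _ => rfl⟩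
  rw [H788.Rl.card_eq φ, h1] at h
  have h2 : Nat.Coprime (u ^ b) (Nat.card φ.range) := by
    apply Nat.Coprime.pow_left
    rw [hu.coprime_iff_not_dvd]
    intro h2
    have h3 : Nat.card φ.range ∣ Nat.card Fˣ := Subgroup.card_subgroup_dvd_card _
    rw [Nat.card_units, Nat.card_eq_fintype_card (α := F)] at h3
    exact hu1 (h2.trans h3)
  exact h2.dvd_of_dvd_mul_right h

/-- **F34-C**, the core -/
theorem sl_le (hp : p.Prime) (hf : 1 ≤ f) (hF : Fintype.card F = p ^ f) {r b t : ℕ} (hr : r.Prime) (ht : t.Prime)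
    (hordr : orderOf ((p : ℕ) : ZMod r) = f * 4) (hordt : orderOf ((p : ℕ) : ZMod t) = f * 3)
    (hrb : (13 ≤ r ∧ 1 ≤ b) ∨ (r = 5 ∧ 2 ≤ b)) {A : Subgroup (GL (Fin 4) F)} (hrA : r ^ b ∣ Nat.card A)
    (htA : t ∣ Nat.card A) : specialLinear (Fin 4) F ≤ A := by
  classical
  by_contra hneA
  haveI : Nonempty (Fin 4) := ⟨0⟩
  haveI : Fact r.Prime := ⟨hr⟩
  haveI : Fact t.Prime := ⟨ht⟩
  have hq : 2 ≤ Fintype.card F := Fintype.one_lt_card
  obtain ⟨hr0, hrP⟩ := ppd_of hf (by norm_num) hr hordr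
  obtain ⟨ht0, htP⟩ := ppd_of hf (by norm_num) ht hordt
  rw [← hF] at hrP htP
  have h7 := seven_le ht htP
  have h5 : 4 < r := hrP.lt
  have hqr : ¬ r ∣ Fintype.card F - 1 := by
    intro h
    have := (hrP.dvd_iff 1).mp (by rwa [pow_one])
    exact absurd (Nat.le_of_dvd one_pos this) (by omega)
  have hqt : ¬ t ∣ Fintype.card F - 1 := by
    intro h
    have := (htP.dvd_iff 1).mp (by rwa [pow_one])
    exact absurd (Nat.le_of_dvd one_pos this) (by omega)
  have hFr : ¬ r ∣ Nat.card F := by rw [Nat.card_eq_fintype_card]; exact hrP.ndvd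
  have hFt : ¬ t ∣ Nat.card F := by rw [Nat.card_eq_fintype_card]; exact htP.ndvd
  -- the intersection with `SL`
  obtain ⟨R, hRdef⟩ : ∃ R, R = A ⊓ specialLinear (Fin 4) F := ⟨_, rfl⟩
  have hR : R ≤ specialLinear (Fin 4) F := by rw [hRdef]; exact inf_le_right
  have hne : ¬ specialLinear (Fin 4) F ≤ R := by
    intro h
    rw [hRdef] at h
    exact hneA (h.trans inf_le_left)
  have hrbd : r ^ b ∣ Nat.card R := by rw [hRdef]; exact dvd_inf hr hqr hrA
  have htd : t ∣ Nat.card R := by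
    have := dvd_inf (b := 1) ht hqt (by rwa [pow_one])
    rw [pow_one] at this
    rwa [hRdef]
  have hb0 : b ≠ 0 := by rcases hrb with h | h <;> omega
  have hrd : r ∣ Nat.card R := (dvd_pow_self r hb0).trans hrbd
  -- elements of orders `r`, `t`
  obtain ⟨x, hxr⟩ := exists_prime_orderOf_dvd_card' r hrd
  have hxr' : orderOf (x : GL (Fin 4) F) = r := by rw [Subgroup.orderOf_coe, hxr]
  obtain ⟨y, hyt⟩ := exists_prime_orderOf_dvd_card' t htd
  have hyt' : orderOf (y : GL (Fin 4) F) = t := by rw [Subgroup.orderOf_coe, hyt]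
  -- a maximal subgroup
  obtain ⟨H, hH, hRH⟩ := H905.exists_isMaximalIn_of_lt (lt_of_le_not_ge hR hne)
  have hdr : ∀ {Y : Subgroup (GL (Fin 4) F)}, R ≤ Y → r ∣ Nat.card Y := fun {Y} h =>
    hrd.trans (Subgroup.card_dvd_of_le h)
  have hdt : ∀ {Y : Subgroup (GL (Fin 4) F)}, R ≤ Y → t ∣ Nat.card Y := fun {Y} h =>
    htd.trans (Subgroup.card_dvd_of_le h)
  rcases H915.sl_cases (by norm_num) hH with ⟨W, h0, h1, h⟩ | ⟨t', m, D, htm, hD, -, -, h⟩ |
    ⟨r', K, hr', hrn, hK, h⟩ | ⟨n₁, n₂, e, P, h1, h2, h3, -, h⟩ | ⟨F₀, r', P, hr', hF₀, h⟩ |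
    ⟨r', k', p', e, R₀, hR₀, hr', hro, -, hk', hnk, -, hmin, hZ, hc, h⟩ | ⟨k', R₀, hR₀, hnk, -, -, hZ, hc, h⟩ |
    ⟨m, t', e, P, hm, ht', hmt, h⟩ | ⟨g, hg, hne', h4, h⟩ | ⟨σ, g, hg, h⟩ | ⟨-, Q, hQ, h⟩ | h
  · -- subspaces
    have hM : R ≤ subspaceStabilizer W := hRH.trans (h.le.trans inf_le_left)
    have h3 : 0 < finrank F W := Nat.pos_of_ne_zero fun h => h0 (Submodule.finrank_eq_zero.mp h)
    have h4 : finrank F W < 4 := by
      have := Submodule.finrank_lt h1
      rwa [Module.finrank_fintype_fun_eq_card, Fintype.card_fin] at this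
    rcases le_finrank_of_mem_stabilizer hrP hxr' (mem_of_subspaceStabilizer (hM x.2)) with h6 | h6
    · omega
    · rw [Fintype.card_fin] at h6
      omega
  · -- decompositions
    have hM : R ≤ decompositionStabilizer D := hRH.trans (h.le.trans inf_le_left)
    have ht := hD.two_le
    have hm := hD.pos
    rcases decomp hD hr hFr (hdr hM) with h6 | h6
    · have h7 : t' ≤ 4 := by rw [← htm]; exact Nat.le_mul_of_pos_right t' hm
      omega
    · rw [Nat.card_eq_fintype_card] at h6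
      have h7 := le_of_div hrP h6
      have : 2 * m ≤ 4 := by rw [← htm]; exact Nat.mul_le_mul_right m ht
      omega
  · -- fields
    have hM : R ≤ subalgebraNormalizer K := hRH.trans (h.le.trans inf_le_left)
    have hr2 : r' = 2 := by
      have h8 : r' ∣ 2 ^ 2 := by norm_num; exact hrn
      exact (Nat.prime_dvd_prime_iff_eq hr' Nat.prime_two).1 (hr'.dvd_of_dvd_pow h8)
    subst hr2
    rcases extension hr' hK ht hFt (hdt hM) with h6 | ⟨i, h6, h8, h9⟩
    · omega
    · rw [Nat.card_eq_fintype_card, ← pow_mul, htP.dvd_iff] at h9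
      rw [Fintype.card_fin] at h8
      omega
  · -- tensor products
    have hM : R ≤ tensorProductSubgroup n₁ n₂ e P := hRH.trans (h.le.trans inf_le_left)
    have h6 := tensor _ _ hr hFr (hdr hM)
    rw [Nat.card_eq_fintype_card] at h6
    have h7 := le_of_div hrP h6
    rw [max_eq_right h2.le] at h7
    have : 2 * n₂ ≤ 4 := by rw [← h3]; exact Nat.mul_le_mul_right n₂ h1
    omega
  · -- subfields
    have hM : R ≤ subfieldSubgroup F₀ P := hRH.trans (h.le.trans inf_le_left)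
    have h1 : Nat.card F₀ ∣ p ^ f := by
      rw [← hF, hF₀]
      exact dvd_pow_self _ hr'.ne_zero
    obtain ⟨g, -, hg⟩ := (Nat.dvd_prime_pow hp).1 h1
    have h2 : g * r' = f := by
      have h3 : p ^ (g * r') = p ^ f := by rw [pow_mul, ← hg, ← hF₀, hF]
      exact Nat.pow_right_injective hp.two_le h3
    rcases subfield hr hFr (hdr hM) with h3 | ⟨i, h3, h4, h5⟩
    · rw [Nat.card_eq_fintype_card] at h3
      exact hqr h3
    · rw [hg, ← pow_mul, hr0.dvd_iff, ← h2, mul_assoc] at h5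
      have hg0 : 0 < g := by
        rcases Nat.eq_zero_or_pos g with h | h
        · rw [h, zero_mul] at h2; omega
        · exact h
      have h6 := Nat.dvd_of_mul_dvd_mul_left hg0 h5
      have h7 := Nat.le_of_dvd h3 h6
      rw [Fintype.card_fin] at h4
      have h8 : 2 * 4 ≤ r' * 4 := Nat.mul_le_mul_right 4 hr'.two_le
      omega
  · -- groups of symplectic type, `r` odd
    have h1 : r' ∣ 2 ^ 2 := by
      have : r' ∣ 4 := by rw [hnk]; exact dvd_pow_self r' (by omega)
      norm_num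
      exact this
    have h2 : r' = 2 := (Nat.prime_dvd_prime_iff_eq hr' Nat.prime_two).1 (hr'.dvd_of_dvd_pow h1)
    rw [h2] at hro
    exact absurd hro (by decide)
  · -- groups of symplectic type, `r = 2`
    have hM : R ≤ subgroupNormalizer R₀ := hRH.trans (h.le.trans inf_le_left)
    have hk2 : k' ≠ 0 := by
      rintro rfl
      norm_num at hnk
    rcases symplecticType hR₀.symplecticType hR₀.absIrred (Or.inr ⟨rfl, hZ, hc⟩) (Nat.pos_of_ne_zero hk2) ht (hdt hM) with h1 | h1 | h1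
    · omega
    · rw [Nat.card_eq_fintype_card] at h1
      exact absurd h1 hqt
    · omega
  · -- tensor powers
    have h8 : m ^ 2 ≤ m ^ t' := Nat.pow_le_pow_right (by omega) ht'
    have h9 : 3 * 3 ≤ m ^ 2 := by rw [pow_two]; exact Nat.mul_le_mul hm hm
    omega
  · -- symplectic forms
    have hM : R ≤ similarityGroup g := hRH.trans (h.le.trans inf_le_left)
    have h1 := even_of_bilinear htP (by norm_num) (by rw [Fintype.card_fin]; norm_num) hyt' hg.bilinear hg.nondegenerate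
      (hM y.2)
    exact absurd h1 (by decide)
  · -- unitary forms
    have hM : R ≤ similarityGroup g := hRH.trans (h.le.trans inf_le_left)
    obtain ⟨p', k', hp', hpF, hF', hσ⟩ := exists_frobenius hg.ne_refl hg.involutive
    haveI : Fact p'.Prime := ⟨hp'⟩
    have hpp : p = p' := by
      have h1 : p ∣ (p' ^ k') ^ 2 := by
        rw [← hF', hF]
        exact dvd_pow_self p (by omega)
      exact (Nat.prime_dvd_prime_iff_eq hp hp').1 (hp.dvd_of_dvd_pow (hp.dvd_of_dvd_pow h1))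
    subst hpp
    have hfk' : k' * 2 = f := by
      have h3 : p ^ (k' * 2) = p ^ f := by rw [pow_mul, ← hF', hF]
      exact Nat.pow_right_injective hp.two_le h3
    have hk'0 : 0 < k' := by omega
    have hPk : Ppd (p ^ k') (2 * 4) r := by
      have h1 := hr0.pow k' (by omega)
      rw [← hfk', mul_assoc, Nat.gcd_comm, Nat.gcd_mul_right_right, Nat.mul_div_cancel_left _ hk'0] at h1
      exact h1
    have h1 := odd_of_unitary hF' hPk (by norm_num) (by rw [Fintype.card_fin]; norm_num) hxr' hσ hg (hM x.2)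
    exact absurd h1 (by decide)
  · -- quadratic forms
    have hM : R ≤ quadSimilarityGroup Q := hRH.trans (h.le.trans inf_le_left)
    have h1 := even_of_quadratic htP (by norm_num) (by rw [Fintype.card_fin]; norm_num) hyt' hQ (hM y.2)
    exact absurd h1 (by decide)
  · -- residual groups
    have hHS : H ≤ specialLinear (Fin 4) F := hH.1.le
    have hrH : r ^ b ∣ Nat.card H := hrbd.trans (Subgroup.card_dvd_of_le hRH)
    obtain ⟨P, p', hP, -, -, ⟨⟨e⟩, -⟩ | ⟨⟨K, _, _, hK, ⟨e⟩⟩, -⟩⟩ := S5782.result H hH h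
    · exact no_pow hr hrb (pow_dvd_of_equiv hP hHS hr hqr hrH e) (Or.inl Cfsg.Agent.H900.SU4.card_mulAut_alt_seven)
    · exact no_pow hr hrb (pow_dvd_of_equiv hP hHS hr hqr hrH e) (Or.inr (Cfsg.Agent.H269.U5.card_aut_u42 hK))

end Cfsg.Agent.H592.F34
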