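import Cfsg.Agent.H823.O8R.Defs
import Cfsg.Agent.H592.F34.Core

/-!
# S3691, row `PΩ⁺₈(q)`, F34-C: subgroups of `GL₄(q)` of order divisible by `r₄` and `r₃` (helper592)
-/

set_option autoImplicit false

namespace Cfsg.Agent.H592.F34

open Cfsg Cfsg.Geo Matrix Module Cfsg.Agent.H823.O8R Cfsg.Agent.H823.O8S
open scoped MatrixGroups

variable {F : Type} [Field F] [Fintype F] {p a r b s k t : ℕ}

/-- (F34-C) subgroups of `GL₄(q)` of order divisible by `r₄` and `r₃` -/
theorem gl_four (hF : Nat.card F = p ^ a) (h : Nm p a r b s k t) {A : Subgroup (GL (Fin 4) F)}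
    (hr : r ^ b ∣ Nat.card A) (ht : t ∣ Nat.card A) : specialLinear (Fin 4) F ≤ A := by
  have hp := h.rb.hp
  have h1 := prim_pp hp.one_le h.rb.prim
  have h2 := prim_pp hp.one_le h.t
  refine sl_le hp h.rb.ha (by rw [← Nat.card_eq_fintype_card]; exact hF) h1.1 h2.1 (by rw [mul_comm]; exact h1.2)
    (by rw [mul_comm]; exact h2.2) ?_ hr ht
  rcases h.rb.cases with h3 | h3 | h3
  · exact Or.inl h3
  · exact Or.inr ⟨h3.1, h3.2.1⟩
  · exfalso
    have h4 := h.q16
    rcases h3.2.2.1 with h5 | h5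
    · rw [h5, h3.2.2.2] at h4
      norm_num at h4
    · rw [h5, h3.2.2.2] at h4
      norm_num at h4

end Cfsg.Agent.H592.F34
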